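import Groth.Agent.FlatCrit65.Purity.ProjOpen
import Groth.Agent.FlatMor67.FlatAtDesc
import Groth.Agent.S1201
import Mathlib

/-!
# A chart testing purity of all base changes along a point

For a finitely presented module, flat on a basic open containing the fibre over a point, there are an étale
neighbourhood `R` of the point and an `R`-algebra `D` such that a base change is pure at a point above
as soon as some function not vanishing there is killed in `D`, and conversely.
-/

set_option autoImplicit false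
set_option linter.style.haveILetI false
set_option linter.unusedSectionVars false

universe u

noncomputable section

open TensorProduct

attribute [local instance] Algebra.TensorProduct.rightAlgebra

namespace Groth.Agent.Hopf35.PureDescent

open Groth.Agent.FlatMor66.RelAssLocus

section Locus

variable {R T : Type u} [CommRing R] [CommRing T] [Algebra R T]
  {M : Type u} [AddCommGroup M] [Module T M] [Module R M] [IsScalarTower R T M]
  {ι : Type u} [Fintype ι] (g : ι → T)
  {K TK MK : Type u} [CommRing K] [CommRing TK] [Algebra R K] [Algebra T TK] [Algebra K TK] [Algebra R TK]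
  [IsScalarTower R T TK] [IsScalarTower R K TK] [Algebra.IsPushout R T K TK] [Algebra.FiniteType K TK]
  [AddCommGroup MK] [Module TK MK] [Module T MK] [IsScalarTower T TK MK] [Module K MK] [IsScalarTower K TK MK]

/-- The injectivity locus read on a base change: no associated point of the fibre is in the bad set. -/
theorem mem_locus_iff (f : M →ₗ[T] MK) (hf : IsBaseChange TK f) (t : Ideal K) [ht : t.IsPrime] :
    PrimeSpectrum.comap (algebraMap R K) ⟨t, ht⟩ ∈ injLocus (fam (A := R) g M) ↔
      ∀ (Q : Ideal TK) [Q.IsPrime], Q.LiesOver t →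
        FlatCA.fiberIdeal t Q ∈ associatedPrimes (t.Fiber TK) (FlatCA.fiberMod t TK MK) →
        ¬ ∀ i, g i ∈ Q.comap (algebraMap T TK) := by
  haveI : Algebra.IsPushout R K T TK := .symm inferInstance
  let e : K ⊗[R] M ≃ₗ[K] MK :=
    (Algebra.IsPushout.cancelBaseChange R K T TK M).symm ≪≫ₗ hf.equiv.restrictScalars K
  have he : ∀ m : M, e (1 ⊗ₜ m) = f m := fun m => by
    show hf.equiv ((Algebra.IsPushout.cancelBaseChange R K T TK M).symm (1 ⊗ₜ m)) = f m
    rw [Algebra.IsPushout.cancelBaseChange_symm_tmul, map_one, IsBaseChange.equiv_tmul, one_smul]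
  have hloc := baseChange_fam (A := R) (B := T) (B' := TK) (algebraMap T TK) e
    (fun b m => by rw [he, he, map_smul, algebraMap_smul]) g
  rw [← Set.mem_preimage, ← hloc, mem_injLocus_fam_iff]
  constructor
  · intro h Q _ hQo hass hall
    exact h _ hass fun i => Ideal.mem_map_of_mem _ (hall i)
  · intro h P hP hall
    haveI := hP.isPrime
    let Q : Ideal TK := P.comap (Algebra.TensorProduct.includeRight (R := K) (A := t.ResidueField) (B := TK)).toRingHom
    have hQP : FlatCA.fiberIdeal t Q = P := FlatMor67.PurePush.fiberIdeal_comap t P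
    have hQo : Q.LiesOver t := ((PrimeSpectrum.primesOverOrderIsoFiber K TK t).symm ⟨P, inferInstance⟩).2.2
    exact h Q hQo (hQP.symm ▸ hP) hall

end Locus

section Proj

variable {R T U M : Type u} [CommRing R] [CommRing T] [CommRing U] [Algebra R T] [Algebra T U] [Algebra R U]
  [IsScalarTower R T U] [AddCommGroup M] [Module T M] [Module R M] [IsScalarTower R T M]
  {K TK MK : Type u} [CommRing K] [CommRing TK] [Algebra R K] [Algebra T TK] [Algebra K TK] [Algebra R TK]
  [IsScalarTower R T TK] [IsScalarTower R K TK] [Algebra.IsPushout R T K TK]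
  [AddCommGroup MK] [Module TK MK] [Module T MK] [IsScalarTower T TK MK]

/-- The chart of a base change is projective. -/
theorem projective_chart_baseChange [Module.Projective R (U ⊗[T] M)]
    {UK : Type u} [CommRing UK] [Algebra U UK] [Algebra TK UK] [Algebra T UK] [Algebra K UK] [Algebra R UK]
    [IsScalarTower T U UK] [IsScalarTower T TK UK] [IsScalarTower R U UK] [IsScalarTower R K UK]
    [IsScalarTower K TK UK] [IsScalarTower R T UK] [Algebra.IsPushout T U TK UK]
    (f : M →ₗ[T] MK) (hf : IsBaseChange TK f) : Module.Projective K (UK ⊗[TK] MK) := by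
  haveI : Algebra.IsPushout T TK U UK := .symm inferInstance
  haveI : Algebra.IsPushout R K T TK := .symm inferInstance
  haveI : Algebra.IsPushout R T K TK := .symm inferInstance
  haveI : Algebra.IsPushout T U TK UK := .symm inferInstance
  haveI : IsScalarTower R TK UK := IsScalarTower.of_algebraMap_eq fun r => by
    rw [IsScalarTower.algebraMap_apply R T TK, ← IsScalarTower.algebraMap_apply T TK UK,
      IsScalarTower.algebraMap_apply R T UK]
  haveI : Algebra.IsPushout R U K UK := (Algebra.IsPushout.comp_iff (R := R) (S := T) (T := U) (R' := K) (S' := TK) (T' := UK)).2 inferInstance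
  haveI : Algebra.IsPushout R K U UK := .symm inferInstance
  let e₁ : UK ⊗[TK] MK ≃ₗ[UK] UK ⊗[TK] (TK ⊗[T] M) :=
    TensorProduct.AlgebraTensorModule.congr (LinearEquiv.refl UK UK) hf.equiv.symm
  let e₂ : UK ⊗[TK] (TK ⊗[T] M) ≃ₗ[UK] UK ⊗[T] M := TensorProduct.AlgebraTensorModule.cancelBaseChange T TK UK UK M
  let e₃ : UK ⊗[U] (U ⊗[T] M) ≃ₗ[UK] UK ⊗[T] M := TensorProduct.AlgebraTensorModule.cancelBaseChange T U UK UK M
  let e₄ : UK ⊗[U] (U ⊗[T] M) ≃ₗ[K] K ⊗[R] (U ⊗[T] M) := Algebra.IsPushout.cancelBaseChange R K U UK (U ⊗[T] M)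
  exact Module.Projective.of_equiv
    (((e₁.trans (e₂.trans e₃.symm)).restrictScalars K).trans e₄).symm

end Proj

/-- Flatness from flatness at every prime. -/
theorem flat_of_forall_flatAt {A B : Type u} [CommRing A] [CommRing B] [Algebra A B]
    (N : Type u) [AddCommGroup N] [Module B N] [Module A N] [IsScalarTower A B N]
    (h : ∀ (q : Ideal B) [q.IsPrime], FlatCA.FlatAt A q N) : Module.Flat A N :=
  Module.flat_of_isLocalized_maximal (R := A) B N (fun m => LocalizedModule m.primeCompl N)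
    (fun m _ => LocalizedModule.mkLinearMap m.primeCompl N) fun m _ => h m

section Core

variable {S₀ B₀ R T U : Type u} [CommRing S₀] [CommRing B₀] [CommRing R] [CommRing T] [CommRing U]
  [Algebra S₀ B₀] [Algebra S₀ R] [Algebra S₀ T] [Algebra B₀ T] [Algebra R T]
  [IsScalarTower S₀ B₀ T] [IsScalarTower S₀ R T] [Algebra.IsPushout S₀ B₀ R T]
  [Algebra T U] [Algebra R U] [IsScalarTower R T U]
  {N₀ : Type u} [AddCommGroup N₀] [Module B₀ N₀] [Module S₀ N₀] [IsScalarTower S₀ B₀ N₀]
  {M : Type u} [AddCommGroup M] [Module T M] [Module B₀ M] [IsScalarTower B₀ T M] [Module R M] [IsScalarTower R T M]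
  {j : N₀ →ₗ[B₀] M}
  {A B N : Type u} [CommRing A] [CommRing B] [Algebra S₀ A] [Algebra A B] [Algebra B₀ B] [Algebra S₀ B]
  [IsScalarTower S₀ A B] [IsScalarTower S₀ B₀ B] [Algebra.IsPushout S₀ B₀ A B]
  [AddCommGroup N] [Module B N] [Module B₀ N] [IsScalarTower B₀ B N] [Module A N] [IsScalarTower A B N]
  {f : N₀ →ₗ[B₀] N}

/-- Base change of the chart data to an algebra over both bases. -/
theorem exists_bc (hM : IsBaseChange T j) (hf : IsBaseChange B f)
    (K : Type u) [CommRing K] [Algebra A K] [Algebra R K] [Algebra S₀ K] [IsScalarTower S₀ A K] [IsScalarTower S₀ R K] :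
    ∃ (TK NK : Type u) (_ : CommRing TK) (_ : Algebra B TK) (_ : Algebra K TK) (_ : Algebra A TK)
      (_ : IsScalarTower A B TK) (_ : IsScalarTower A K TK) (_ : Algebra.IsPushout A B K TK)
      (_ : Algebra T TK) (_ : Algebra R TK) (_ : IsScalarTower R T TK) (_ : IsScalarTower R K TK)
      (_ : Algebra.IsPushout R T K TK)
      (_ : AddCommGroup NK) (_ : Module TK NK) (_ : Module B NK) (_ : IsScalarTower B TK NK)
      (_ : Module T NK) (_ : IsScalarTower T TK NK) (_ : Module K NK) (_ : IsScalarTower K TK NK)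
      (fN : N →ₗ[B] NK) (h : M →ₗ[T] NK),
      IsBaseChange TK fN ∧ IsBaseChange TK h ∧
        ∀ b, algebraMap T TK (algebraMap B₀ T b) = algebraMap B TK (algebraMap B₀ B b) := by
  let TK := B ⊗[A] K
  haveI : Algebra.IsPushout A B K TK := inferInstance
  haveI : IsScalarTower B₀ B TK := inferInstance
  letI : Algebra R TK := ((algebraMap K TK).comp (algebraMap R K)).toAlgebra
  haveI hRK : IsScalarTower R K TK := IsScalarTower.of_algebraMap_eq fun _ => rfl
  haveI : IsScalarTower S₀ K TK := IsScalarTower.of_algebraMap_eq fun s => by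
    show algebraMap S₀ B s ⊗ₜ[A] (1 : K) = (1 : B) ⊗ₜ[A] algebraMap S₀ K s
    rw [IsScalarTower.algebraMap_apply S₀ A B, IsScalarTower.algebraMap_apply S₀ A K]
    generalize algebraMap S₀ A s = a
    rw [Algebra.algebraMap_eq_smul_one, Algebra.algebraMap_eq_smul_one, TensorProduct.smul_tmul]
  haveI : IsScalarTower S₀ R TK := IsScalarTower.of_algebraMap_eq fun s => by
    show algebraMap S₀ TK s = algebraMap K TK (algebraMap R K (algebraMap S₀ R s))
    rw [← IsScalarTower.algebraMap_apply S₀ R K, ← IsScalarTower.algebraMap_apply S₀ K TK]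
  haveI : IsScalarTower S₀ A TK := IsScalarTower.of_algebraMap_eq fun s => by
    rw [IsScalarTower.algebraMap_apply S₀ K TK, IsScalarTower.algebraMap_apply S₀ A K, ← IsScalarTower.algebraMap_apply A K TK]
  haveI : IsScalarTower S₀ B TK := IsScalarTower.of_algebraMap_eq fun s => by
    rw [IsScalarTower.algebraMap_apply S₀ A TK, IsScalarTower.algebraMap_apply A B TK, ← IsScalarTower.algebraMap_apply S₀ A B]
  haveI : IsScalarTower S₀ B₀ TK := IsScalarTower.of_algebraMap_eq fun s => by
    show algebraMap S₀ TK s = algebraMap B TK (algebraMap B₀ B (algebraMap S₀ B₀ s))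
    rw [← IsScalarTower.algebraMap_apply S₀ B₀ B, ← IsScalarTower.algebraMap_apply S₀ B TK]
  let ψL : B₀ ⊗[S₀] R →ₐ[B₀] TK := Algebra.TensorProduct.lift (Algebra.ofId B₀ TK)
    (IsScalarTower.toAlgHom S₀ R TK) (fun _ _ => Commute.all _ _)
  let ψ : T →ₐ[B₀] TK := ψL.comp (Algebra.IsPushout.equiv S₀ B₀ R T).symm.toAlgHom
  have hψR : ∀ r, ψ (algebraMap R T r) = algebraMap R TK r := fun r => by
    show ψL ((Algebra.IsPushout.equiv S₀ B₀ R T).symm (algebraMap R T r)) = _
    rw [Algebra.IsPushout.equiv_symm_algebraMap_right, Algebra.TensorProduct.lift_tmul, map_one, one_mul]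
    rfl
  letI : Algebra T TK := ψ.toRingHom.toAlgebra
  haveI : IsScalarTower B₀ T TK := IsScalarTower.of_algebraMap_eq fun b => (ψ.commutes b).symm
  haveI hRT : IsScalarTower R T TK := IsScalarTower.of_algebraMap_eq fun r => by
    exact (hψR r).symm
  haveI : IsScalarTower S₀ T TK := IsScalarTower.of_algebraMap_eq fun s => by
    rw [IsScalarTower.algebraMap_apply S₀ B₀ T, ← IsScalarTower.algebraMap_apply B₀ T TK,
      ← IsScalarTower.algebraMap_apply S₀ B₀ TK]
  haveI hpo1 : Algebra.IsPushout S₀ B₀ K TK := by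
    haveI : Algebra.IsPushout S₀ A B₀ B := .symm inferInstance
    haveI : Algebra.IsPushout A K B TK := .symm inferInstance
    exact Algebra.IsPushout.symm ((Algebra.IsPushout.comp_iff (R := S₀) (S := A) (T := K) (R' := B₀) (S' := B) (T' := TK)).2 inferInstance)
  haveI hpo2 : Algebra.IsPushout R T K TK := by
    haveI : Algebra.IsPushout S₀ K B₀ TK := .symm inferInstance
    haveI : Algebra.IsPushout S₀ R B₀ T := .symm inferInstance
    exact Algebra.IsPushout.symm
      ((Algebra.IsPushout.comp_iff (R := S₀) (S := R) (T := K) (R' := B₀) (S' := T) (T' := TK)).1 inferInstance)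
  haveI : SMulCommClass B K TK := ⟨fun s r z => by
    rw [Algebra.smul_def r z, Algebra.smul_def r (s • z)]
    exact (mul_smul_comm s _ z).symm⟩
  haveI : IsScalarTower B₀ T (TK ⊗[B] N) := inferInstance
  let f₀ : N₀ →ₗ[B₀] TK ⊗[B] N := (TensorProduct.mk B TK N 1).restrictScalars B₀ ∘ₗ f
  have hf₀ : IsBaseChange TK f₀ := hf.comp (TensorProduct.isBaseChange B N TK)
  refine ⟨TK, TK ⊗[B] N, inferInstance, inferInstance, inferInstance, inferInstance, inferInstance, inferInstance,
    inferInstance, inferInstance, inferInstance, hRT, hRK, hpo2, inferInstance, inferInstance, inferInstance, inferInstance,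
    inferInstance, inferInstance, inferInstance, inferInstance, TensorProduct.mk B TK N 1, hM.lift f₀,
    TensorProduct.isBaseChange B N TK, IsBaseChange.of_comp hM ?_, fun b => ψ.commutes b⟩
  have he : ((hM.lift f₀).restrictScalars B₀) ∘ₗ j = f₀ := LinearMap.ext fun x => hM.lift_eq f₀ x
  rw [he]
  exact hf₀

variable {p₀ : Ideal S₀} [p₀.IsPrime] {p' : Ideal R} [p'.IsPrime] [hpp : p'.LiesOver p₀]
  {ι : Type u} [Fintype ι] (g : ι → T) {D : Type u} [CommRing D] [Algebra S₀ D] (φ : R →ₐ[S₀] D)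
  (hφ : Set.range (PrimeSpectrum.comap φ.toRingHom) = (injLocus (fam (A := R) g M))ᶜ)

set_option maxHeartbeats 1000000 in
include hφ in
/-- Purity: the bad locus misses the generalisations of the point. -/
theorem exists_killed_of_pure [Algebra.FiniteType A B] [Algebra.Etale S₀ R]
    (hM : IsBaseChange T j) (hf : IsBaseChange B f)
    (hbp : Function.Bijective (Ideal.ResidueField.mapₐ p₀ p' (Algebra.ofId S₀ R) hpp.over))
    (hgood : ∀ (Q₁ : Ideal T) [Q₁.IsPrime], Q₁.LiesOver p' → ¬ ∀ i, g i ∈ Q₁)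
    (p : Ideal A) [p.IsPrime] [p.LiesOver p₀] (P : Ideal (A ⊗[S₀] R)) [P.IsPrime] [hPp : P.LiesOver p]
    (hPp' : P.comap (algebraMap R (A ⊗[S₀] R)) = p') (hpure : FlatCA.IsPureAlong A B N p) :
    ∃ x, x ∉ P ∧ Algebra.TensorProduct.map (AlgHom.id S₀ A) φ x = 0 := by
  let RA := A ⊗[S₀] R
  haveI : Algebra.IsPushout S₀ R A RA := .symm inferInstance
  haveI : P.LiesOver p' := ⟨hPp'.symm⟩
  have hnA : FlatCA.IsEtaleNhd A RA p P :=
    ⟨inferInstance, hPp, RG29.pushout_bijective_mapₐ (R := S₀) (S := A) (R' := R) (S' := RA) (p := p₀) (p' := p') hbp p P⟩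
  obtain ⟨TK, NK, j1, j2, j3, j4, j5, j6, j7, j8, j9, j10, j11, j12, j13, j14, j15, j16, j17, j18, j19, j20, fN, h, hfN, hh, hψB⟩ := exists_bc (S₀ := S₀) (R := R) (A := A) hM hf RA
  haveI := j7; haveI := j12
  haveI : Algebra.FiniteType RA TK := by
    haveI : Algebra.IsPushout A RA B TK := .symm inferInstance
    exact Algebra.FiniteType.equiv inferInstance (Algebra.IsPushout.equiv A RA B TK)
  have hgen : ∀ (t : Ideal RA) [ht : t.IsPrime], t ≤ P →
      PrimeSpectrum.comap (algebraMap R RA) ⟨t, ht⟩ ∈ injLocus (fam (A := R) g M) := by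
    intro t _ htP
    refine (mem_locus_iff g h hh t).2 fun Q _ hQt hass hall => ?_
    obtain ⟨P₁, hP₁, hQP, hP₁o⟩ : ∃ P₁ : Ideal TK, P₁.IsPrime ∧ Q ≤ P₁ ∧ P₁.LiesOver P := by
      by_contra hne
      push Not at hne
      exact hpure RA TK NK fN t P Q hnA
        ⟨inferInstance, hfN, htP, hPp, hQt, hass, fun P₁ hP₁ hle => hne P₁ hP₁ hle⟩
    haveI := hP₁; haveI := hP₁o
    let Q₁ : Ideal T := P₁.comap (algebraMap T TK)
    haveI : Q₁.LiesOver p' := ⟨by
      rw [Ideal.under_def, Ideal.comap_comap, ← IsScalarTower.algebraMap_eq, IsScalarTower.algebraMap_eq R RA TK,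
        ← Ideal.comap_comap]
      exact hPp'.symm.trans (congrArg _ hP₁o.over)⟩
    exact hgood Q₁ inferInstance fun i => hQP (hall i)
  by_contra hne
  push Not at hne
  let φA := Algebra.TensorProduct.map (AlgHom.id S₀ A) φ
  have hdis : Disjoint ((⊥ : Ideal (A ⊗[S₀] D)) : Set (A ⊗[S₀] D))
      ((P.primeCompl.map φA.toRingHom : Submonoid (A ⊗[S₀] D)) : Set (A ⊗[S₀] D)) := by
    rw [Set.disjoint_left]
    rintro x hx ⟨y, hy, rfl⟩
    exact hne y hy hx
  obtain ⟨d, hd, -, hdd⟩ := Ideal.exists_le_prime_disjoint _ _ hdis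
  haveI := hd
  have hle : d.comap φA.toRingHom ≤ P := fun r hr => by
    by_contra hrP
    exact Set.disjoint_left.1 hdd hr ⟨r, hrP, rfl⟩
  have h1 := hgen (d.comap φA.toRingHom) hle
  have h2 : PrimeSpectrum.comap (algebraMap R RA) ⟨d.comap φA.toRingHom, inferInstance⟩ ∈
      (injLocus (fam (A := R) g M))ᶜ := by
    rw [← hφ]
    refine ⟨⟨d.comap (Algebra.TensorProduct.includeRight : D →ₐ[S₀] A ⊗[S₀] D).toRingHom, inferInstance⟩, ?_⟩
    refine PrimeSpectrum.ext (Ideal.ext fun r => ?_)
    show (1 : A) ⊗ₜ[S₀] φ r ∈ d ↔ φA ((1 : A) ⊗ₜ[S₀] r) ∈ d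
    rw [Algebra.TensorProduct.map_tmul]
    rfl
  exact h2 h1

set_option maxHeartbeats 1000000 in
include hφ in
/-- A function killed in `D` gives purity. -/
theorem pure_of_killed [Algebra.FinitePresentation S₀ B₀] [Module.FinitePresentation B₀ N₀] [Algebra.Etale S₀ R]
    [Algebra.Etale T U] [Module.Projective R (U ⊗[T] M)] [Algebra.FiniteType A B] [Module.Finite B N]
    (hM : IsBaseChange T j) (hf : IsBaseChange B f)
    (hW : ∀ (Q : Ideal T) [Q.IsPrime], (∃ Q' : Ideal U, Q'.IsPrime ∧ Q'.comap (algebraMap T U) = Q) ↔ ¬ ∀ i, g i ∈ Q)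
    (hflatU : ∀ (Q' : Ideal U) [Q'.IsPrime], FlatCA.FlatAt S₀ ((Q'.comap (algebraMap T U)).comap (algebraMap B₀ T)) N₀)
    (p : Ideal A) [p.IsPrime] (P : Ideal (A ⊗[S₀] R)) [P.IsPrime] [P.LiesOver p]
    (x : A ⊗[S₀] R) (hxP : x ∉ P) (hx : Algebra.TensorProduct.map (AlgHom.id S₀ A) φ x = 0) :
    FlatCA.IsUnivPureAlong A B N p := by
  let RA := A ⊗[S₀] R
  let K := Localization.Away x
  haveI : Algebra.Etale RA K := Algebra.Etale.of_isLocalizationAway x
  haveI : Algebra.Etale A K := Algebra.Etale.comp A RA K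
  haveI : IsScalarTower R RA K := inferInstance
  haveI : IsScalarTower S₀ R K := IsScalarTower.of_algebraMap_eq fun s => by
    show _ = algebraMap RA K (algebraMap R RA (algebraMap S₀ R s))
    rw [← IsScalarTower.algebraMap_apply S₀ R RA, ← IsScalarTower.algebraMap_apply S₀ RA K]
  have hd : Disjoint (Submonoid.powers x : Set RA) (P : Set RA) :=
    (Ideal.disjoint_powers_iff_notMem_of_isPrime _).2 hxP
  let k : Ideal K := P.map (algebraMap RA K)
  haveI : k.IsPrime := IsLocalization.isPrime_of_isPrime_disjoint (Submonoid.powers x) K P inferInstance hd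
  haveI : k.LiesOver P := ⟨(IsLocalization.under_map_of_isPrime_disjoint (Submonoid.powers x) K inferInstance hd).symm⟩
  obtain ⟨TK, NK, j1, j2, j3, j4, j5, j6, j7, j8, j9, j10, j11, j12, j13, j14, j15, j16, j17, j18, j19, j20, fN, h, hfN, hh, hψB⟩ := exists_bc (S₀ := S₀) (R := R) (A := A) hM hf K
  haveI := j7; haveI := j12
  haveI : Algebra.IsPushout R K T TK := .symm j12
  haveI : Algebra.IsPushout S₀ R B₀ T := .symm inferInstance
  haveI : Algebra.FinitePresentation R T :=
    Algebra.FinitePresentation.equiv (Algebra.IsPushout.equiv S₀ R B₀ T)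
  haveI : Algebra.FinitePresentation K TK :=
    Algebra.FinitePresentation.equiv (Algebra.IsPushout.equiv R K T TK)
  haveI : Module.FinitePresentation T M := Module.FinitePresentation.of_equiv hM.equiv
  haveI : Module.FinitePresentation TK NK := Module.FinitePresentation.of_equiv hh.equiv
  have hgoodK : ∀ (t : Ideal K) [ht : t.IsPrime],
      PrimeSpectrum.comap (algebraMap R K) ⟨t, ht⟩ ∈ injLocus (fam (A := R) g M) := by
    intro t ht
    by_contra hnot
    obtain ⟨d, hd⟩ : PrimeSpectrum.comap (algebraMap R K) ⟨t, ht⟩ ∈ Set.range (PrimeSpectrum.comap φ.toRingHom) :=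
      hφ ▸ hnot
    letI : Algebra R D := φ.toRingHom.toAlgebra
    haveI : IsScalarTower S₀ R D := IsScalarTower.of_algebraMap_eq fun s => (φ.commutes s).symm
    obtain ⟨r, hr, -, -⟩ := Spec91.exists_prime_tensor (A := R) d.asIdeal t (congrArg PrimeSpectrum.asIdeal hd)
    haveI : IsScalarTower S₀ R (D ⊗[R] K) := inferInstance
    let χ : A ⊗[S₀] D →ₐ[S₀] D ⊗[R] K := Algebra.TensorProduct.lift
      (((Algebra.TensorProduct.includeRight : K →ₐ[R] D ⊗[R] K).restrictScalars S₀).comp (IsScalarTower.toAlgHom S₀ A K))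
      ((Algebra.TensorProduct.includeLeft : D →ₐ[R] D ⊗[R] K).restrictScalars S₀) (fun _ _ => Commute.all _ _)
    have hχ : χ.comp (Algebra.TensorProduct.map (AlgHom.id S₀ A) φ) =
        ((Algebra.TensorProduct.includeRight : K →ₐ[R] D ⊗[R] K).restrictScalars S₀).comp
          (IsScalarTower.toAlgHom S₀ RA K) := by
      refine Algebra.TensorProduct.ext (AlgHom.ext fun a => ?_) (AlgHom.ext fun s => ?_)
      · show χ (a ⊗ₜ φ 1) = (1 : D) ⊗ₜ[R] algebraMap RA K (a ⊗ₜ 1)
        rw [map_one, Algebra.TensorProduct.lift_tmul, map_one, mul_one]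
        exact congrArg ((1 : D) ⊗ₜ[R] ·) (IsScalarTower.algebraMap_apply A RA K a)
      · show χ (1 ⊗ₜ φ s) = (1 : D) ⊗ₜ[R] algebraMap RA K (1 ⊗ₜ s)
        rw [Algebra.TensorProduct.lift_tmul, map_one, one_mul]
        show (algebraMap R D s) ⊗ₜ[R] (1 : K) = (1 : D) ⊗ₜ[R] algebraMap R K s
        rw [Algebra.algebraMap_eq_smul_one, Algebra.algebraMap_eq_smul_one, TensorProduct.smul_tmul]
    have h1 := congrArg (fun F => F x) hχ
    simp only [AlgHom.comp_apply, hx, map_zero] at h1
    have hu : IsUnit (Algebra.TensorProduct.includeRight (algebraMap RA K x) : D ⊗[R] K) :=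
      (IsLocalization.Away.algebraMap_isUnit x).map _
    refine hr.ne_top (r.eq_top_of_isUnit_mem ?_ hu)
    exact (show (0 : D ⊗[R] K) = Algebra.TensorProduct.includeRight (algebraMap RA K x) from h1) ▸ r.zero_mem
  have hass : ∀ (t : Ideal K) [t.IsPrime] (Q : Ideal TK) [Q.IsPrime], Q.LiesOver t →
      FlatCA.fiberIdeal t Q ∈ associatedPrimes (t.Fiber TK) (FlatCA.fiberMod t TK NK) →
      ∃ Q' : Ideal U, Q'.IsPrime ∧ Q'.comap (algebraMap T U) = Q.comap (algebraMap T TK) := fun t _ Q _ hQt hQ =>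
    (hW _).2 ((mem_locus_iff g h hh t).1 (hgoodK t) Q hQt hQ)
  -- flatness
  letI : Algebra B₀ TK := ((algebraMap B TK).comp (algebraMap B₀ B)).toAlgebra
  haveI : IsScalarTower B₀ B TK := IsScalarTower.of_algebraMap_eq fun _ => rfl
  have hBT : (algebraMap T TK).comp (algebraMap B₀ T) = algebraMap B₀ TK := RingHom.ext fun b => hψB b
  have hflatQ : ∀ (Q : Ideal TK) [Q.IsPrime], FlatCA.FlatAt S₀ (Q.comap (algebraMap B₀ TK)) N₀ → FlatCA.FlatAt K Q NK := by
    intro Q _ hg
    haveI : Algebra.IsPushout S₀ A B₀ B := .symm inferInstance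
    letI : Algebra S₀ TK := ((algebraMap K TK).comp (algebraMap S₀ K)).toAlgebra
    haveI : IsScalarTower S₀ K TK := IsScalarTower.of_algebraMap_eq fun _ => rfl
    haveI : IsScalarTower S₀ A TK := IsScalarTower.of_algebraMap_eq fun s => by
      rw [IsScalarTower.algebraMap_apply S₀ K TK, IsScalarTower.algebraMap_apply S₀ A K, ← IsScalarTower.algebraMap_apply A K TK]
    haveI : IsScalarTower S₀ B TK := IsScalarTower.of_algebraMap_eq fun s => by
      rw [IsScalarTower.algebraMap_apply S₀ A TK, IsScalarTower.algebraMap_apply A B TK, ← IsScalarTower.algebraMap_apply S₀ A B]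
    haveI : IsScalarTower S₀ B₀ TK := IsScalarTower.of_algebraMap_eq fun s => by
      rw [IsScalarTower.algebraMap_apply B₀ B TK, ← IsScalarTower.algebraMap_apply S₀ B₀ B, ← IsScalarTower.algebraMap_apply S₀ B TK]
    letI : Module B₀ NK := Module.compHom NK (algebraMap B₀ B)
    haveI : IsScalarTower B₀ B NK := IsScalarTower.of_algebraMap_smul fun _ _ => rfl
    haveI : IsScalarTower B₀ TK NK := IsScalarTower.of_algebraMap_smul fun b z => by
      rw [IsScalarTower.algebraMap_apply B₀ B TK, algebraMap_smul]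
      rfl
    haveI : Algebra.IsPushout A K B TK := .symm inferInstance
    haveI : Algebra.IsPushout S₀ B₀ K TK :=
      .symm ((Algebra.IsPushout.comp_iff (R := S₀) (S := A) (T := K) (R' := B₀) (S' := B) (T' := TK)).2 inferInstance)
    exact FlatMor67.FlatAtBC.flatAt_baseChange (R := S₀) (R' := K)
      (fN.restrictScalars B₀ ∘ₗ f) (hf.comp hfN) Q hg
  haveI : Module.Flat K NK := flat_of_forall_flatAt (B := TK) NK fun Q _ => by
    haveI : Q.LiesOver (Q.comap (algebraMap K TK)) := ⟨rfl⟩
    refine (S1201.result NK (Q.comap (algebraMap K TK)) Q).2 fun Q₁ _ _ hQ₁o hQ₁ => hflatQ Q₁ ?_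
    obtain ⟨Q', hQ', hQ'T⟩ := hass _ Q₁ hQ₁o hQ₁
    haveI := hQ'
    simp only [← hBT, ← Ideal.comap_comap, ← hQ'T]
    exact hflatU Q'
  -- the chart over `K`
  let UK := U ⊗[T] TK
  haveI : Algebra.IsPushout T U TK UK := inferInstance
  letI : Algebra TK UK := Algebra.TensorProduct.rightAlgebra
  haveI : Algebra.Etale TK UK := Algebra.Etale.of_equiv (Algebra.TensorProduct.commRight T TK U)
  letI : Algebra K UK := ((algebraMap TK UK).comp (algebraMap K TK)).toAlgebra
  haveI : IsScalarTower K TK UK := IsScalarTower.of_algebraMap_eq fun _ => rfl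
  haveI : IsScalarTower R U UK := inferInstance
  haveI : IsScalarTower R T UK := IsScalarTower.of_algebraMap_eq fun r => by
    rw [IsScalarTower.algebraMap_apply R U UK, IsScalarTower.algebraMap_apply R T U,
      ← IsScalarTower.algebraMap_apply T U UK]
  haveI : IsScalarTower R K UK := IsScalarTower.of_algebraMap_eq fun r => by
    rw [IsScalarTower.algebraMap_apply R T UK, IsScalarTower.algebraMap_apply T TK UK,
      ← IsScalarTower.algebraMap_apply R T TK, IsScalarTower.algebraMap_apply R K TK,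
      ← IsScalarTower.algebraMap_apply K TK UK]
  haveI : Module.Projective K (UK ⊗[TK] NK) := projective_chart_baseChange (R := R) (T := T) (U := U) h hh
  obtain ⟨f', hf', hproj⟩ := FlatCrit65.Purity.exists_projective_away_of_chart (R := K) (T := TK) (U := UK) NK k
    fun t _ _ Q _ hQo hQ => by
      obtain ⟨Q', hQ', hQ'T⟩ := hass t Q hQo hQ
      haveI := hQ'
      obtain ⟨q', hq', -, hq2⟩ := FlatMor67.FlatAtDesc.exists_prime_pushout (R := T) (S := U) (R' := TK) (S' := UK) Q' Q hQ'T
      exact ⟨q', hq', hq2⟩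
  let K' := Localization.Away f'
  haveI : Algebra.Etale K K' := Algebra.Etale.of_isLocalizationAway f'
  haveI : Algebra.Etale A K' := Algebra.Etale.comp A K K'
  have hd' : Disjoint (Submonoid.powers f' : Set K) (k : Set K) :=
    (Ideal.disjoint_powers_iff_notMem_of_isPrime _).2 hf'
  let k' : Ideal K' := k.map (algebraMap K K')
  haveI : k'.IsPrime := IsLocalization.isPrime_of_isPrime_disjoint (Submonoid.powers f') K' k inferInstance hd'
  haveI : k'.LiesOver k :=
    ⟨(IsLocalization.under_map_of_isPrime_disjoint (Submonoid.powers f') K' inferInstance hd').symm⟩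
  haveI : k.LiesOver p := Ideal.LiesOver.trans k P p
  haveI : k'.LiesOver p := Ideal.LiesOver.trans k' k p
  haveI : Algebra.IsPushout A K B TK := .symm inferInstance
  haveI : Module.Projective K' (K' ⊗[A] N) := Module.Projective.of_equiv
    ((LinearEquiv.baseChange K K' _ _ ((hfN.equiv.symm.restrictScalars K).trans (Algebra.IsPushout.cancelBaseChange A K B TK N))).trans
      (TensorProduct.AlgebraTensorModule.cancelBaseChange A K K' K' N))
  intro A' B' N' _ _ _ _ _ _ _ _ _ _ _ _ _ _ ff t' t _ _ Q _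
  exact FlatCrit65.Purity.isUnivPureAlong_of_projective_baseChange N k' p A' B' N' ff t' t Q

end Core

set_option maxHeartbeats 1000000 in
/-- The test chart. -/
theorem exists_chart {S₀ B₀ : Type u} [CommRing S₀] [CommRing B₀] [Algebra S₀ B₀] [Algebra.FinitePresentation S₀ B₀]
    (N₀ : Type u) [AddCommGroup N₀] [Module B₀ N₀] [Module S₀ N₀] [IsScalarTower S₀ B₀ N₀]
    [Module.FinitePresentation B₀ N₀] (g₀ : B₀)
    (hflat : ∀ (q : Ideal B₀) [q.IsPrime], g₀ ∉ q → FlatCA.FlatAt S₀ q N₀)
    (p₀ : Ideal S₀) [p₀.IsPrime] (hfib : ∀ (q : Ideal B₀) [q.IsPrime], q.LiesOver p₀ → g₀ ∉ q) :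
    ∃ (R : Type u) (_ : CommRing R) (_ : Algebra S₀ R) (p' : Ideal R) (_ : p'.IsPrime),
      FlatCA.IsEtaleNhd S₀ R p₀ p' ∧
      ∃ (D : Type u) (_ : CommRing D) (_ : Algebra S₀ D) (φ : R →ₐ[S₀] D),
        ∀ (A B N : Type u) [CommRing A] [CommRing B] [Algebra S₀ A] [Algebra A B] [Algebra B₀ B] [Algebra S₀ B]
          [IsScalarTower S₀ A B] [IsScalarTower S₀ B₀ B] [Algebra.IsPushout S₀ B₀ A B]
          [AddCommGroup N] [Module B N] [Module B₀ N] [IsScalarTower B₀ B N] [Module A N] [IsScalarTower A B N]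
          (f : N₀ →ₗ[B₀] N), IsBaseChange B f →
          ∀ (p : Ideal A) [p.IsPrime], p.LiesOver p₀ → ∀ (P : Ideal (A ⊗[S₀] R)) [P.IsPrime], P.LiesOver p →
            P.comap (algebraMap R (A ⊗[S₀] R)) = p' →
            (FlatCA.IsPureAlong A B N p ↔
              ∃ x, x ∉ P ∧ Algebra.TensorProduct.map (AlgHom.id S₀ A) φ x = 0) := by
  classical
  -- a flat open subscheme containing the fibre
  let S := Localization.Away g₀
  haveI : Module.Flat S₀ (S ⊗[B₀] N₀) := RG29.flat_away_of_forall N₀ g₀ fun q hq => hflat q.asIdeal hq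
  haveI : Algebra.FinitePresentation B₀ S := IsLocalization.Away.finitePresentation g₀
  haveI : Algebra.FinitePresentation S₀ S := Algebra.FinitePresentation.trans S₀ B₀ S
  obtain ⟨R, U, _, _, _, _, _, _, hRU, hSU, p', _, hn, hetU, hcov, hprojU⟩ :=
    FlatCrit65.Purity.exists_projective_cover_over (R := S₀) (S := S) (S ⊗[B₀] N₀) p₀
  obtain ⟨het, hpp, hbp⟩ := id hn
  haveI := het; haveI := hpp; haveI := hetU; haveI := hRU; haveI := hSU
  letI : Algebra B₀ U := ((algebraMap S U).comp (algebraMap B₀ S)).toAlgebra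
  haveI : IsScalarTower B₀ S U := IsScalarTower.of_algebraMap_eq fun _ => rfl
  haveI : IsScalarTower S₀ B₀ U := IsScalarTower.of_algebraMap_eq fun s => by
    show algebraMap S₀ U s = algebraMap S U (algebraMap B₀ S (algebraMap S₀ B₀ s))
    rw [← IsScalarTower.algebraMap_apply S₀ B₀ S, ← IsScalarTower.algebraMap_apply S₀ S U]
  haveI : Algebra.Etale B₀ S := Algebra.Etale.of_isLocalizationAway g₀
  haveI : Algebra.Etale B₀ U := Algebra.Etale.comp B₀ S U
  let T := B₀ ⊗[S₀] R
  haveI : Algebra.IsPushout S₀ B₀ R T := inferInstance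
  let θ : T →ₐ[B₀] U := Algebra.TensorProduct.lift (Algebra.ofId B₀ U) (IsScalarTower.toAlgHom S₀ R U)
    (fun _ _ => Commute.all _ _)
  letI : Algebra T U := θ.toRingHom.toAlgebra
  haveI : IsScalarTower B₀ T U := IsScalarTower.of_algebraMap_eq fun b => (θ.commutes b).symm
  haveI : IsScalarTower R T U := IsScalarTower.of_algebraMap_eq fun r => by
    show algebraMap R U r = θ ((1 : B₀) ⊗ₜ r)
    rw [Algebra.TensorProduct.lift_tmul, map_one, one_mul]
    rfl
  haveI : Algebra.Etale B₀ T := inferInstance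
  haveI : Algebra.Etale T U := Algebra.Etale.of_restrictScalars B₀ T U
  haveI : Algebra.FinitePresentation S₀ T := Algebra.FinitePresentation.trans S₀ B₀ T
  haveI : Algebra.FinitePresentation R T := Algebra.FinitePresentation.of_restrict_scalars_finitePresentation S₀ R T
  haveI : SMulCommClass B₀ R T := ⟨fun s r x => by
    rw [Algebra.smul_def r x, Algebra.smul_def r (s • x)]
    exact (mul_smul_comm s _ x).symm⟩
  haveI : SMulCommClass R B₀ T := SMulCommClass.symm _ _ _
  let M := T ⊗[B₀] N₀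
  haveI : IsScalarTower R T M := IsScalarTower.of_algebraMap_smul fun r z => by
    induction z using TensorProduct.induction_on with
    | zero => simp
    | tmul t n => rw [TensorProduct.smul_tmul', TensorProduct.smul_tmul', algebraMap_smul]
    | add a b ha hb => rw [smul_add, smul_add, ha, hb]
  haveI : Module.Projective R (U ⊗[T] M) := by
    let e₁ : U ⊗[T] M ≃ₗ[U] U ⊗[B₀] N₀ := TensorProduct.AlgebraTensorModule.cancelBaseChange B₀ T U U N₀
    let e₂ : U ⊗[S] (S ⊗[B₀] N₀) ≃ₗ[U] U ⊗[B₀] N₀ := TensorProduct.AlgebraTensorModule.cancelBaseChange B₀ S U U N₀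
    let eS := e₁.trans e₂.symm
    let e' : U ⊗[T] M ≃ₗ[R] RestrictScalars R U (U ⊗[S] (S ⊗[B₀] N₀)) :=
      { eS.toAddEquiv.trans (RestrictScalars.addEquiv R U (U ⊗[S] (S ⊗[B₀] N₀))).symm with
        map_smul' := fun c z => by
          show (RestrictScalars.addEquiv R U (U ⊗[S] (S ⊗[B₀] N₀))).symm (eS (c • z)) =
            c • (RestrictScalars.addEquiv R U (U ⊗[S] (S ⊗[B₀] N₀))).symm (eS z)
          rw [← algebraMap_smul U c z, eS.map_smul]
          exact RestrictScalars.addEquiv_symm_map_algebraMap_smul R U (U ⊗[S] (S ⊗[B₀] N₀)) c _ }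
    haveI := hprojU
    exact Module.Projective.of_equiv e'.symm
  -- the image of the chart
  let W : Set (PrimeSpectrum T) := Set.range (PrimeSpectrum.comap (algebraMap T U))
  have hWo : IsOpen W :=
    (PrimeSpectrum.isOpenMap_comap_of_hasGoingDown_of_finitePresentation (R := T) (S := U)).isOpen_range
  have hWc : IsCompact W := isCompact_range (PrimeSpectrum.continuous_comap _)
  obtain ⟨I, ⟨Gs, hG⟩, hI⟩ := PrimeSpectrum.isCompact_isOpen_iff_ideal.1 ⟨hWc, hWo⟩
  subst hG
  let g : Gs → T := Subtype.val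
  have hW : ∀ (Q : Ideal T) [Q.IsPrime],
      (∃ Q' : Ideal U, Q'.IsPrime ∧ Q'.comap (algebraMap T U) = Q) ↔ ¬ ∀ i, g i ∈ Q := fun Q hQ => by
    have h1 : (⟨Q, hQ⟩ : PrimeSpectrum T) ∈ W ↔ ¬ ∀ i, g i ∈ Q := by
      rw [← hI, Set.mem_compl_iff, PrimeSpectrum.mem_zeroLocus, SetLike.coe_subset_coe, Ideal.span_le]
      exact not_congr ⟨fun h i => h i.2, fun h x hx => h ⟨x, hx⟩⟩
    refine Iff.trans ?_ h1
    constructor
    · rintro ⟨Q', hQ', h⟩
      exact ⟨⟨Q', hQ'⟩, PrimeSpectrum.ext h⟩
    · rintro ⟨Q', h⟩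
      exact ⟨Q'.asIdeal, Q'.isPrime, congrArg PrimeSpectrum.asIdeal h⟩
  have hL : Topology.IsConstructible (injLocus (fam (A := R) g M)) := isConstructible_injLocus g
  obtain ⟨D, _, φ₀, hφ⟩ := PrimeSpectrum.exists_range_eq_of_isConstructible hL.compl
  letI : Algebra S₀ D := (φ₀.comp (algebraMap S₀ R)).toAlgebra
  let φ : R →ₐ[S₀] D := { φ₀ with commutes' := fun s => rfl }
  refine ⟨R, inferInstance, inferInstance, p', inferInstance, hn, D, inferInstance, inferInstance, φ, ?_⟩
  intro A B N _ _ _ _ _ _ _ _ _ _ _ _ _ _ _ f hf p _ hpo P _ hPp hPp'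
  haveI := hpo; haveI := hPp
  haveI : Algebra.FiniteType A B := by
    haveI : Algebra.IsPushout S₀ A B₀ B := .symm inferInstance
    exact Algebra.FiniteType.equiv inferInstance (Algebra.IsPushout.equiv S₀ A B₀ B)
  haveI : Module.Finite B N := Module.Finite.equiv hf.equiv
  have hM : IsBaseChange T (TensorProduct.mk B₀ T N₀ 1) := TensorProduct.isBaseChange B₀ N₀ T
  refine ⟨exists_killed_of_pure g φ hφ hM hf hbp ?_ p P hPp', fun ⟨x, hxP, hx⟩ => ?_⟩
  · intro Q₁ _ hQ₁
    haveI : Q₁.LiesOver p₀ := Ideal.LiesOver.trans Q₁ p' p₀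
    haveI : (Q₁.under B₀).LiesOver p₀ := ⟨by rw [Ideal.under_under]; exact Ideal.over_def Q₁ p₀⟩
    let q := Q₁.under B₀
    have hgq : g₀ ∉ q := hfib q inferInstance
    have hd : Disjoint (Submonoid.powers g₀ : Set B₀) (q : Set B₀) :=
      (Ideal.disjoint_powers_iff_notMem_of_isPrime _).2 hgq
    haveI : (q.map (algebraMap B₀ S)).IsPrime :=
      IsLocalization.isPrime_of_isPrime_disjoint (Submonoid.powers g₀) S q inferInstance hd
    have hqc := IsLocalization.under_map_of_isPrime_disjoint (Submonoid.powers g₀) S (I := q) inferInstance hd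
    haveI : (q.map (algebraMap B₀ S)).LiesOver p₀ := ⟨by
      conv_lhs => rw [Ideal.over_def q p₀, ← hqc]
      rw [Ideal.under_under]⟩
    obtain ⟨q', hq', hq'o, hq'S⟩ := hcov (q.map (algebraMap B₀ S)) inferInstance
    haveI := hq'; haveI := hq'o
    haveI : (q'.under T).LiesOver p' := ⟨by rw [Ideal.under_under]; exact Ideal.over_def q' p'⟩
    have heq : q'.under T = Q₁ := RG29.pushout_prime_le (R := S₀) (S := B₀) (R' := R) (S' := T) (p := p₀)
      (p' := p') hbp (q'.under T) Q₁ (by
        rw [Ideal.under_under, ← Ideal.under_under (B := S) q']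
        exact (congrArg (Ideal.under B₀) hq'S).trans hqc)
    exact (hW Q₁).1 ⟨q', hq', heq⟩
  · intro A' B' N' _ _ _ _ _ _ _ _ _ _ _ _ _ _ ff t' t _ _ Q _ _
    refine pure_of_killed (U := U) g φ hφ hM hf hW (fun Q' _ => hflat _ ?_) p P x hxP hx A' B' N' ff t' t Q
    rw [Ideal.comap_comap, ← IsScalarTower.algebraMap_eq]
    exact fun hg => (inferInstance : Q'.IsPrime).ne_top (Q'.eq_top_of_isUnit_mem hg
      ((IsLocalization.Away.algebraMap_isUnit g₀).map (algebraMap S U)))

end Groth.Agent.Hopf35.PureDescent
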