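import Groth.Agent.Hopf35.PureDescent.Chart
import Groth.Agent.FlatCrit65.Purity.Cover
import Groth.Agent.FlatMor67.FlatAtStage
import Groth.Agent.FlatMor68.NoethModAlg
import Mathlib

/-!
# Purity and flatness along a fibre descend to a stage of a directed colimit
-/

set_option autoImplicit false
set_option linter.style.haveILetI false
set_option linter.unusedSectionVars false

universe u

noncomputable section

open TensorProduct

attribute [local instance] Algebra.TensorProduct.rightAlgebra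

namespace Groth.Agent.Hopf35.PureDescent

/-- The model over an intermediate ring maps to a model over a bigger ring. -/
theorem exists_step {A₀ B₀ M₀ : Type u} [CommRing A₀] [CommRing B₀] [Algebra A₀ B₀] [AddCommGroup M₀] [Module B₀ M₀]
    (S₀ H BH NH : Type u) [CommRing S₀] [CommRing H] [CommRing BH] [Algebra A₀ S₀] [Algebra A₀ H] [Algebra S₀ H]
    [IsScalarTower A₀ S₀ H] [Algebra H BH] [Algebra B₀ BH] [Algebra A₀ BH] [IsScalarTower A₀ H BH]
    [IsScalarTower A₀ B₀ BH] [Algebra.IsPushout A₀ B₀ H BH]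
    [AddCommGroup NH] [Module BH NH] [Module B₀ NH] [IsScalarTower B₀ BH NH]
    (f : M₀ →ₗ[B₀] NH) (hf : IsBaseChange BH f) :
    ∃ (_ : Algebra (S₀ ⊗[A₀] B₀) BH) (_ : Algebra S₀ BH) (_ : IsScalarTower S₀ (S₀ ⊗[A₀] B₀) BH)
      (_ : IsScalarTower S₀ H BH) (_ : Algebra.IsPushout S₀ (S₀ ⊗[A₀] B₀) H BH)
      (_ : Module (S₀ ⊗[A₀] B₀) NH) (_ : IsScalarTower (S₀ ⊗[A₀] B₀) BH NH)
      (f' : (S₀ ⊗[A₀] B₀) ⊗[B₀] M₀ →ₗ[S₀ ⊗[A₀] B₀] NH),
      IsBaseChange BH f' ∧
        ∀ a b, algebraMap (S₀ ⊗[A₀] B₀) BH (a ⊗ₜ b) = algebraMap H BH (algebraMap S₀ H a) * algebraMap B₀ BH b := by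
  let Bj := S₀ ⊗[A₀] B₀
  letI : Algebra S₀ BH := ((algebraMap H BH).comp (algebraMap S₀ H)).toAlgebra
  haveI hSH : IsScalarTower S₀ H BH := IsScalarTower.of_algebraMap_eq fun _ => rfl
  haveI : IsScalarTower A₀ S₀ BH := IsScalarTower.of_algebraMap_eq fun x => by
    rw [IsScalarTower.algebraMap_apply A₀ H BH, IsScalarTower.algebraMap_apply A₀ S₀ H]
    rfl
  let χ : Bj →ₐ[S₀] BH := Algebra.TensorProduct.lift (Algebra.ofId S₀ BH) (IsScalarTower.toAlgHom A₀ B₀ BH)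
    (fun _ _ => Commute.all _ _)
  letI : Algebra Bj BH := χ.toRingHom.toAlgebra
  haveI hSB : IsScalarTower S₀ Bj BH := IsScalarTower.of_algebraMap_eq fun s => (χ.commutes s).symm
  haveI : IsScalarTower B₀ Bj BH := IsScalarTower.of_algebraMap_eq fun b => by
    show algebraMap B₀ BH b = χ ((1 : S₀) ⊗ₜ b)
    rw [Algebra.TensorProduct.lift_tmul, map_one, one_mul]
    rfl
  haveI : IsScalarTower A₀ Bj BH := IsScalarTower.of_algebraMap_eq fun x => by
    rw [IsScalarTower.algebraMap_apply A₀ S₀ Bj, ← IsScalarTower.algebraMap_apply S₀ Bj BH,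
      ← IsScalarTower.algebraMap_apply A₀ S₀ BH]
  haveI hpo : Algebra.IsPushout S₀ Bj H BH := by
    haveI : Algebra.IsPushout A₀ H B₀ BH := .symm inferInstance
    haveI : Algebra.IsPushout A₀ S₀ B₀ Bj := inferInstance
    exact Algebra.IsPushout.symm
      ((Algebra.IsPushout.comp_iff (R := A₀) (S := S₀) (T := H) (R' := B₀) (S' := Bj) (T' := BH)).1 inferInstance)
  letI : Module Bj NH := Module.compHom NH χ.toRingHom
  haveI hBN : IsScalarTower Bj BH NH := IsScalarTower.of_algebraMap_smul fun _ _ => rfl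
  haveI : IsScalarTower B₀ Bj NH := IsScalarTower.of_algebraMap_smul fun b x => by
    show algebraMap Bj BH (algebraMap B₀ Bj b) • x = b • x
    rw [← IsScalarTower.algebraMap_apply, algebraMap_smul]
  have hM : IsBaseChange Bj (TensorProduct.mk B₀ Bj M₀ 1) := TensorProduct.isBaseChange B₀ M₀ Bj
  refine ⟨inferInstance, inferInstance, hSB, hSH, hpo, inferInstance, hBN, hM.lift f, IsBaseChange.of_comp hM ?_,
    fun a b => Algebra.TensorProduct.lift_tmul _ _ _ _ _⟩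
  have he : ((hM.lift f).restrictScalars B₀) ∘ₗ TensorProduct.mk B₀ Bj M₀ 1 = f :=
    LinearMap.ext fun x => hM.lift_eq f x
  rw [he]
  exact hf

/-- A finitely presented `ℤ`-algebra mapping to a directed colimit maps to a stage. -/
theorem exists_hom_stage {ι : Type u} [Preorder ι] (G : ι → Type u) [∀ i, CommRing (G i)]
    (g : ∀ i j, i ≤ j → G i →+* G j) (A : Type u) [CommRing A] [∀ i, Algebra (G i) A]
    (hcolim : FlatCA.IsDirectedColimitRing G g A)
    {C : Type u} [CommRing C] [Algebra.FinitePresentation ℤ C] (χ : C →+* A) :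
    ∃ (i : ι) (ψ : C →+* G i), (algebraMap (G i) A).comp ψ = χ := by
  classical
  obtain ⟨hdir, hne, -, hcomp, hcompat, hsurj, hzero⟩ := hcolim
  obtain ⟨n, π, hπ, w, hw⟩ := (inferInstance : Algebra.FinitePresentation ℤ C).out
  choose iF xF hxF using fun k => hsurj (χ (π (MvPolynomial.X k)))
  obtain ⟨i₀, hi₀⟩ := Finset.exists_le (Finset.univ.image iF)
  let Θ : MvPolynomial (Fin n) ℤ →ₐ[ℤ] G i₀ :=
    MvPolynomial.aeval fun k => g (iF k) i₀ (hi₀ _ (Finset.mem_image_of_mem _ (Finset.mem_univ k))) (xF k)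
  have hΘ : (algebraMap (G i₀) A).toIntAlgHom.comp Θ = χ.toIntAlgHom.comp π := by
    refine MvPolynomial.algHom_ext fun k => ?_
    simp only [Θ, AlgHom.comp_apply, MvPolynomial.aeval_X, RingHom.toIntAlgHom_apply]
    have h := RingHom.congr_fun (hcompat (iF k) i₀ (hi₀ _ (Finset.mem_image_of_mem _ (Finset.mem_univ k)))) (xF k)
    exact h.trans (hxF k)
  have hw0 : ∀ r ∈ w, algebraMap (G i₀) A (Θ r) = 0 := fun r hr => by
    have hr0 : π r = 0 := RingHom.mem_ker.mp (hw.le (Ideal.subset_span hr) : _)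
    have h := AlgHom.congr_fun hΘ r
    simp only [AlgHom.comp_apply, RingHom.toIntAlgHom_apply, hr0, map_zero] at h
    exact h
  choose! jF hjF hjF0 using fun r hr => hzero i₀ (Θ r) (hw0 r hr)
  obtain ⟨j, hj⟩ := Finset.exists_le (insert i₀ (w.image jF))
  have hij : i₀ ≤ j := hj _ (Finset.mem_insert_self _ _)
  have hker : RingHom.ker π.toRingHom ≤ RingHom.ker ((g i₀ j hij).toIntAlgHom.comp Θ).toRingHom := by
    rw [← hw, Ideal.span_le]
    intro r hr
    have hrj : jF r ≤ j := hj _ (Finset.mem_insert_of_mem (Finset.mem_image_of_mem _ hr))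
    show g i₀ j hij (Θ r) = 0
    have h := RingHom.congr_fun (hcomp i₀ (jF r) j (hjF r hr) hrj) (Θ r)
    have h0 : g i₀ (jF r) (hjF r hr) (Θ r) = 0 := hjF0 r hr
    refine (h.symm.trans ?_)
    show g (jF r) j hrj (g i₀ (jF r) (hjF r hr) (Θ r)) = 0
    rw [h0, map_zero]
  refine ⟨j, (AlgHom.liftOfSurjective π hπ ((g i₀ j hij).toIntAlgHom.comp Θ) hker).toRingHom, ?_⟩
  refine RingHom.ext fun c => ?_
  obtain ⟨p, rfl⟩ := hπ c
  simp only [RingHom.comp_apply, AlgHom.toRingHom_eq_coe, RingHom.coe_coe, AlgHom.comp_apply, AlgHom.liftOfSurjective_apply, RingHom.toIntAlgHom_apply]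
  have h := RingHom.congr_fun (hcompat i₀ j hij) (Θ p)
  exact h.trans (AlgHom.congr_fun hΘ p)


set_option maxHeartbeats 1000000 in
/-- A pure module, flat along a fibre, comes from one at some stage. -/
theorem exists_stage {ι : Type u} [Preorder ι] (G : ι → Type u) [∀ i, CommRing (G i)]
    (g : ∀ i j, i ≤ j → G i →+* G j) {A : Type u} [CommRing A] [∀ i, Algebra (G i) A]
    (hcolim : FlatCA.IsDirectedColimitRing G g A)
    {B : Type u} [CommRing B] [Algebra A B] [Algebra.FinitePresentation A B]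
    (N : Type u) [AddCommGroup N] [Module B N] [Module A N] [IsScalarTower A B N] [Module.FinitePresentation B N]
    (p : Ideal A) [p.IsPrime] (hpure : FlatCA.IsPureAlong A B N p)
    (hflat : ∀ (q : Ideal B) [q.IsPrime], q.LiesOver p → FlatCA.FlatAt A q N) :
    ∃ (i : ι) (Bi Ni : Type u) (_ : CommRing Bi) (_ : Algebra (G i) Bi) (_ : Algebra Bi B) (_ : Algebra (G i) B)
      (_ : IsScalarTower (G i) A B) (_ : IsScalarTower (G i) Bi B)
      (_ : AddCommGroup Ni) (_ : Module Bi Ni) (_ : Module (G i) Ni) (_ : IsScalarTower (G i) Bi Ni)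
      (_ : Module Bi N) (_ : IsScalarTower Bi B N) (f : Ni →ₗ[Bi] N),
      Algebra.FinitePresentation (G i) Bi ∧ Algebra.IsPushout (G i) Bi A B ∧ Module.FinitePresentation Bi Ni ∧ IsBaseChange B f ∧
      FlatCA.IsPureAlong (G i) Bi Ni (p.comap (algebraMap (G i) A)) ∧
      ∀ (q : Ideal Bi) [q.IsPrime], q.LiesOver (p.comap (algebraMap (G i) A)) → FlatCA.FlatAt (G i) q Ni := by
  classical
  obtain ⟨A₀, B₀, M₀, _, _, _, _, _, _, _, _, _, e, eM, he, hft, hfp, hfinM, -⟩ :=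
    FlatMor68.NoethModAlg.exists_flat_module_model A B N
  haveI := hft; haveI := hfp; haveI := hfinM
  haveI : IsNoetherianRing A₀ := Algebra.FiniteType.isNoetherianRing ℤ A₀
  haveI : Algebra.FinitePresentation ℤ A₀ := Algebra.FinitePresentation.of_finiteType.mp hft
  haveI : IsNoetherianRing B₀ := Algebra.FiniteType.isNoetherianRing A₀ B₀
  haveI : Module.FinitePresentation B₀ M₀ := Module.finitePresentation_of_finite B₀ M₀
  obtain ⟨i₀, ψ, hψ⟩ := exists_hom_stage G g A hcolim (algebraMap A₀ A)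
  obtain ⟨hdir, hne, hid, hcomp, hcompat, hsurj, hzero⟩ := id hcolim
  -- the system of `A₀`-algebras
  let ι' := {i : ι // i₀ ≤ i}
  letI iA₀ : ∀ a : ι', Algebra A₀ (G a.1) := fun a => ((g i₀ a.1 a.2).comp ψ).toAlgebra
  haveI : ∀ a : ι', IsScalarTower A₀ (G a.1) A := fun a => IsScalarTower.of_algebraMap_eq fun x => by
    show algebraMap A₀ A x = algebraMap (G a.1) A (g i₀ a.1 a.2 (ψ x))
    rw [← RingHom.comp_apply (algebraMap (G a.1) A), hcompat]
    exact (RingHom.congr_fun hψ x).symm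
  let g' : ∀ a b : ι', a ≤ b → G a.1 →ₐ[A₀] G b.1 := fun a b h =>
    { g a.1 b.1 h with commutes' := fun x => RingHom.congr_fun (hcomp i₀ a.1 b.1 a.2 h) (ψ x) }
  have hc' : FlatCA.IsDirectedColimitRing (fun a : ι' => G a.1) (fun a b h => (g' a b h).toRingHom) A := by
    refine ⟨⟨fun a b => ?_⟩, ⟨⟨i₀, le_rfl⟩⟩, fun a => hid a.1, fun a b c hab hbc => hcomp a.1 b.1 c.1 hab hbc,
      fun a b h => hcompat a.1 b.1 h, fun r => ?_, fun a x hx => ?_⟩
    · obtain ⟨k, hak, hbk⟩ := hdir.directed a.1 b.1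
      exact ⟨⟨k, a.2.trans hak⟩, hak, hbk⟩
    · obtain ⟨j, x, rfl⟩ := hsurj r
      obtain ⟨k, hik, hjk⟩ := hdir.directed i₀ j
      exact ⟨⟨k, hik⟩, g j k hjk x, RingHom.congr_fun (hcompat j k hjk) x⟩
    · obtain ⟨j, hj, h⟩ := hzero a.1 x hx
      exact ⟨⟨j, a.2.trans hj⟩, hj, h⟩
  -- the model of `B` and `N`
  letI : Algebra A₀ B := ((algebraMap A B).comp (algebraMap A₀ A)).toAlgebra
  haveI : IsScalarTower A₀ A B := IsScalarTower.of_algebraMap_eq fun _ => rfl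
  haveI : IsScalarTower A₀ B₀ B := IsScalarTower.of_algebraMap_eq fun x => by
    show algebraMap A B (algebraMap A₀ A x) = _
    rw [← he, ← e.commutes]
    congr 1
    show algebraMap A₀ A x ⊗ₜ[A₀] (1 : B₀) = (1 : A) ⊗ₜ[A₀] algebraMap A₀ B₀ x
    rw [Algebra.algebraMap_eq_smul_one, Algebra.algebraMap_eq_smul_one, TensorProduct.smul_tmul]
  haveI hpoA : Algebra.IsPushout A₀ B₀ A B := by
    refine Algebra.IsPushout.symm ⟨?_⟩
    refine IsBaseChange.of_equiv e.toLinearEquiv fun b => ?_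
    exact he b
  letI : Module B₀ N := Module.compHom N (algebraMap B₀ B)
  haveI : IsScalarTower B₀ B N := IsScalarTower.of_algebraMap_smul fun _ _ => rfl
  let f₀ : M₀ →ₗ[B₀] N := (eM.toLinearMap.restrictScalars B₀) ∘ₗ TensorProduct.mk B₀ B M₀ 1
  have hf₀ : IsBaseChange B f₀ := IsBaseChange.of_equiv eM fun _ => rfl
  -- flatness on a basic open around the fibre
  obtain ⟨gB, hgfib, hgU⟩ := RG29.exists_basicOpen_fibre (S := B) p
    (FlatCrit65.isOpen_flat_locus_module (R := A) (S := B) (M := N)) fun q hq => hflat q.asIdeal hq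
  have hbasic : FlatMor67.FlatOnBasic M₀ A (e.symm gB) := by
    intro Q _ hQ
    letI : Algebra B (A ⊗[A₀] B₀) := e.symm.toRingEquiv.toRingHom.toAlgebra
    haveI : IsScalarTower A B (A ⊗[A₀] B₀) := IsScalarTower.of_algebraMap_eq fun a => (e.symm.commutes a).symm
    haveI : IsScalarTower B₀ B (A ⊗[A₀] B₀) := IsScalarTower.of_algebraMap_eq fun b => by
      show (1 : A) ⊗ₜ[A₀] b = e.symm (algebraMap B₀ B b)
      rw [← he, e.symm_apply_apply]
    haveI : Module.Flat B (A ⊗[A₀] B₀) := Module.Flat.of_linearEquiv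
      (LinearEquiv.ofBijective (Algebra.linearMap B (A ⊗[A₀] B₀)) e.symm.bijective).symm
    let m : N →ₗ[B] (A ⊗[A₀] B₀) ⊗[B₀] M₀ := hf₀.lift (TensorProduct.mk B₀ (A ⊗[A₀] B₀) M₀ 1)
    have hm : IsBaseChange (A ⊗[A₀] B₀) m := by
      refine IsBaseChange.of_comp hf₀ ?_
      have h' : (m.restrictScalars B₀) ∘ₗ f₀ = TensorProduct.mk B₀ (A ⊗[A₀] B₀) M₀ 1 :=
        LinearMap.ext fun x => hf₀.lift_eq _ x
      rw [h']
      exact TensorProduct.isBaseChange B₀ M₀ _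
    refine FlatCrit65.Purity.flatAt_ascend hm Q ?_
    exact hgU (show (⟨Q.comap (algebraMap B (A ⊗[A₀] B₀)), inferInstance⟩ : PrimeSpectrum B) ∈
      PrimeSpectrum.basicOpen gB from hQ)
  obtain ⟨i₁, f₁, hf₁⟩ := FlatMor67.exists_mapColim_eq (fun a : ι' => G a.1) g' A hc' (e.symm gB)
  obtain ⟨j, hij, hgj⟩ := FlatMor67.exists_flatOnBasic_stage (fun a : ι' => G a.1) g' A hc' (M₀ := M₀) i₁ f₁
    (hf₁.symm ▸ hbasic)
  let gj : G j.1 ⊗[A₀] B₀ := FlatMor67.mapStage (fun a : ι' => G a.1) g' B₀ i₁ j hij f₁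
  haveI : Algebra.FinitePresentation (G j.1) (G j.1 ⊗[A₀] B₀) := inferInstance
  obtain ⟨a1, a2, a3, a4, a5, a6, a7, fA, hfA, hfAmap⟩ := exists_step (A₀ := A₀) (B₀ := B₀) (G j.1) A B N f₀ hf₀
  haveI := a5
  have hmapA : ∀ z, algebraMap (G j.1 ⊗[A₀] B₀) B z = e (FlatMor67.mapColim (fun a : ι' => G a.1) A B₀ j z) := fun z => by
    induction z with
    | zero => simp
    | add x y hx hy => simp only [map_add, hx, hy]
    | tmul a b =>
      rw [hfAmap, Algebra.TensorProduct.map_tmul]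
      show _ = e (algebraMap (G j.1) A a ⊗ₜ[A₀] b)
      rw [← he b, ← e.commutes, ← map_mul, Algebra.TensorProduct.algebraMap_apply, Algebra.TensorProduct.tmul_mul_tmul,
        mul_one, one_mul]
      rfl
  have hgjA : algebraMap (G j.1 ⊗[A₀] B₀) B gj = gB := by
    rw [hmapA]
    show e (FlatMor67.mapColim (fun a : ι' => G a.1) A B₀ j (FlatMor67.mapStage (fun a : ι' => G a.1) g' B₀ i₁ j hij f₁)) = gB
    rw [FlatMor67.mapColim_mapStage (fun a : ι' => G a.1) g' A hc', hf₁, e.apply_symm_apply]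
  let pj := p.comap (algebraMap (G j.1) A)
  haveI hppj : p.LiesOver pj := ⟨rfl⟩
  have hfibj : ∀ (q : Ideal (G j.1 ⊗[A₀] B₀)) [q.IsPrime], q.LiesOver pj → gj ∉ q := fun q _ hq hgq => by
    obtain ⟨Q, hQ, hQ1, hQ2⟩ := FlatMor67.FlatAtDesc.exists_prime_pushout (R := G j.1) (S := G j.1 ⊗[A₀] B₀)
      (R' := A) (S' := B) q p hq.over.symm
    refine hgfib ⟨Q, hQ⟩ ⟨hQ2.symm⟩ ?_
    show gB ∈ Q
    rw [← hgjA, ← Ideal.mem_comap, hQ1]
    exact hgq
  -- the chart
  obtain ⟨R, _, _, p', _, hn, D, _, _, φ, hchart⟩ :=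
    exists_chart ((G j.1 ⊗[A₀] B₀) ⊗[B₀] M₀) gj (fun q _ hq => hgj q hq) pj hfibj
  obtain ⟨het, hpp, -⟩ := id hn
  haveI := het; haveI := hpp
  obtain ⟨P, hP, hPp, hPp'⟩ := FlatMor67.FlatAtDesc.exists_prime_pushout (R := G j.1) (S := A) (R' := R)
    (S' := A ⊗[G j.1] R) p p' (by
      show pj = _
      exact hpp.over)
  haveI := hP
  obtain ⟨x, hxP, hx⟩ := (hchart A B N fA hfA p hppj P ⟨hPp.symm⟩ hPp').1 hpure
  -- the system over the stage
  let ι'' := {a : ι' // j ≤ a}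
  letI iGj : ∀ a : ι'', Algebra (G j.1) (G a.1.1) := fun a => (g j.1 a.1.1 a.2).toAlgebra
  haveI : ∀ a : ι'', IsScalarTower (G j.1) (G a.1.1) A := fun a => IsScalarTower.of_algebraMap_eq fun x =>
    (RingHom.congr_fun (hcompat j.1 a.1.1 a.2) x).symm
  let g'' : ∀ a b : ι'', a ≤ b → G a.1.1 →ₐ[G j.1] G b.1.1 := fun a b h =>
    { g a.1.1 b.1.1 h with commutes' := fun x => RingHom.congr_fun (hcomp j.1 a.1.1 b.1.1 a.2 h) x }
  have hc'' : FlatCA.IsDirectedColimitRing (fun a : ι'' => G a.1.1) (fun a b h => (g'' a b h).toRingHom) A := by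
    refine ⟨⟨fun a b => ?_⟩, ⟨⟨j, le_rfl⟩⟩, fun a => hid a.1.1, fun a b c hab hbc => hcomp a.1.1 b.1.1 c.1.1 hab hbc,
      fun a b h => hcompat a.1.1 b.1.1 h, fun r => ?_, fun a x hx => ?_⟩
    · obtain ⟨k, hak, hbk⟩ := hc'.1.directed a.1 b.1
      exact ⟨⟨k, a.2.trans hak⟩, hak, hbk⟩
    · obtain ⟨i, x, rfl⟩ := hc'.2.2.2.2.2.1 r
      obtain ⟨k, hjk, hik⟩ := hc'.1.directed j i
      exact ⟨⟨k, hjk⟩, g i.1 k.1 hik x, RingHom.congr_fun (hcompat i.1 k.1 hik) x⟩
    · obtain ⟨i, hi, h⟩ := hc'.2.2.2.2.2.2 a.1 x hx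
      exact ⟨⟨i, a.2.trans hi⟩, hi, h⟩
  obtain ⟨i₂, y, hy⟩ := FlatMor67.exists_mapColim_eq (fun a : ι'' => G a.1.1) g'' A hc'' x
  have hnat : ∀ (a : ι'') (z : G a.1.1 ⊗[G j.1] R),
      Algebra.TensorProduct.map (AlgHom.id (G j.1) A) φ (FlatMor67.mapColim (fun a : ι'' => G a.1.1) A R a z) =
        FlatMor67.mapColim (fun a : ι'' => G a.1.1) A D a
          (Algebra.TensorProduct.map (AlgHom.id (G j.1) (G a.1.1)) φ z) := fun a z => by
    induction z with
    | zero => simp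
    | add x y hx hy => simp only [map_add, hx, hy]
    | tmul s t => rfl
  obtain ⟨k, hik, hk⟩ := FlatMor67.exists_mapStage_eq_zero (fun a : ι'' => G a.1.1) g'' A hc'' i₂
    (Algebra.TensorProduct.map (AlgHom.id (G j.1) (G i₂.1.1)) φ y) (by rw [← hnat, hy, hx])
  let yk := FlatMor67.mapStage (fun a : ι'' => G a.1.1) g'' R i₂ k hik y
  have hyk : FlatMor67.mapColim (fun a : ι'' => G a.1.1) A R k yk = x := by
    show FlatMor67.mapColim (fun a : ι'' => G a.1.1) A R k (FlatMor67.mapStage (fun a : ι'' => G a.1.1) g'' R i₂ k hik y) = x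
    rw [FlatMor67.mapColim_mapStage (fun a : ι'' => G a.1.1) g'' A hc'', hy]
  have hyk0 : Algebra.TensorProduct.map (AlgHom.id (G j.1) (G k.1.1)) φ yk = 0 := by
    refine Eq.trans ?_ hk
    show Algebra.TensorProduct.map (AlgHom.id (G j.1) (G k.1.1)) φ
        (FlatMor67.mapStage (fun a : ι'' => G a.1.1) g'' R i₂ k hik y) =
      FlatMor67.mapStage (fun a : ι'' => G a.1.1) g'' D i₂ k hik
        (Algebra.TensorProduct.map (AlgHom.id (G j.1) (G i₂.1.1)) φ y)
    clear hk hy hyk yk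
    induction y with
    | zero => simp
    | add x y hx hy => simp only [map_add, hx, hy]
    | tmul s t => rfl
  -- the models at the stage
  let Gk := G k.1.1
  let h := p.comap (algebraMap Gk A)
  haveI : IsScalarTower A₀ (G j.1) Gk := IsScalarTower.of_algebraMap_eq fun x =>
    (RingHom.congr_fun (hcomp i₀ j.1 k.1.1 j.2 k.2) (ψ x)).symm
  let Bk := Gk ⊗[A₀] B₀
  let Nk := Bk ⊗[B₀] M₀
  obtain ⟨b1, b2, b3, b4, b5, b6, b7, fk, hfk, hfkmap⟩ :=
    exists_step (A₀ := A₀) (B₀ := B₀) (G j.1) Gk Bk Nk (TensorProduct.mk B₀ Bk M₀ 1) (TensorProduct.isBaseChange B₀ M₀ Bk)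
  haveI := b5
  obtain ⟨c1, c2, c3, c4, c5, c6, c7, fkA, hfkA, -⟩ := exists_step (A₀ := A₀) (B₀ := B₀) Gk A B N f₀ hf₀
  let Pk : Ideal (Gk ⊗[G j.1] R) := P.comap (FlatMor67.mapColim (fun a : ι'' => G a.1.1) A R k).toRingHom
  haveI : Pk.IsPrime := Ideal.comap_isPrime _ _
  have hPk : Pk.LiesOver h := ⟨by
    ext z
    show algebraMap Gk A z ∈ p ↔ algebraMap Gk A z ⊗ₜ[G j.1] (1 : R) ∈ P
    exact SetLike.ext_iff.1 hPp.symm _⟩
  have hPk' : Pk.comap (algebraMap R (Gk ⊗[G j.1] R)) = p' := by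
    ext r
    show algebraMap Gk A 1 ⊗ₜ[G j.1] r ∈ P ↔ r ∈ p'
    rw [map_one]
    exact SetLike.ext_iff.1 hPp' r
  have hhj : h.LiesOver pj := ⟨by
    show p.comap (algebraMap (G j.1) A) = (p.comap (algebraMap Gk A)).comap (algebraMap (G j.1) Gk)
    rw [Ideal.comap_comap, ← IsScalarTower.algebraMap_eq]⟩
  haveI := hhj
  refine ⟨k.1.1, Bk, Nk, inferInstance, inferInstance, c1, c2, c4, c3, inferInstance, inferInstance, inferInstance,
    inferInstance, c6, c7, fkA, inferInstance, c5, inferInstance, hfkA, ?_, fun q _ hq => ?_⟩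
  · refine (hchart Gk Bk Nk fk hfk h hhj Pk hPk hPk').2 ⟨yk, fun hm => hxP ?_, hyk0⟩
    rw [← hyk]
    exact hm
  · refine FlatMor67.FlatAtBC.flatAt_baseChange (R := G j.1) (R' := Gk) fk hfk q (hgj _ ?_)
    refine hfibj _ ⟨?_⟩
    rw [Ideal.under_def, Ideal.comap_comap, ← IsScalarTower.algebraMap_eq, IsScalarTower.algebraMap_eq (G j.1) Gk Bk,
      ← Ideal.comap_comap]
    exact hhj.over.trans (congrArg _ hq.over)

end Groth.Agent.Hopf35.PureDescent
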